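import Groth.Agent.FlatFunLimLib.Zero
import Groth.Agent.FittLib.Sheaf
import Groth.Agent.CohBCLib.Cons
import Groth.Agent.MiscFlat6.FreeStalks

/-!
# The zero scheme of a homomorphism into a finite locally free module
-/

set_option autoImplicit false
set_option linter.style.haveILetI false

universe u

open CategoryTheory CategoryTheory.Limits AlgebraicGeometry TopologicalSpace Opposite TensorProduct

noncomputable section

namespace RepZeroLib

variable {X : Scheme.{u}} {E F : X.Modules} (v : E ⟶ F)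

/-- The values of linear forms on the image of `v`. -/
def coeffIdeal (U : X.Opens) : Ideal Γ(X, U) :=
  Ideal.span {r | ∃ (e : Γ(E, U)) (φ : Γ(F, U) →ₗ[Γ(X, U)] Γ(X, U)), φ (v.app U e) = r}

variable [Coh.IsQCoh E] [Coh.IsQCoh F]

theorem finite_projective_sections (hF : FlatMod.IsFinLocFree F) {U : X.Opens} (hU : IsAffineOpen U) :
    Module.FinitePresentation Γ(X, U) Γ(F, U) ∧ Module.Projective Γ(X, U) Γ(F, U) := by
  haveI := FittLib.finitePresentation_affine F (MiscFlat6.isFlat_and_isFP_iff.2 hF).2 hU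
  haveI := CohBCLib.flat_sections_of_isFinLocFree F hF hU
  exact ⟨inferInstance, Module.Flat.projective_of_finitePresentation⟩

theorem coeffIdeal_basicOpen (hF : FlatMod.IsFinLocFree F) {U : X.Opens} (hU : IsAffineOpen U) (g : Γ(X, U)) :
    (coeffIdeal v U).map (X.presheaf.map (homOfLE (X.basicOpen_le g)).op).hom =
      coeffIdeal v (X.basicOpen g) := by
  let res := (X.presheaf.map (homOfLE (X.basicOpen_le g)).op).hom
  let A := Γ(X, U)
  let A' := Γ(X, X.basicOpen g)
  letI : Algebra A A' := res.toAlgebra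
  letI := Module.compHom Γ(E, X.basicOpen g) res
  letI := Module.compHom Γ(F, X.basicOpen g) res
  haveI : IsScalarTower A A' Γ(E, X.basicOpen g) := IsScalarTower.of_algebraMap_smul fun _ _ => rfl
  haveI : IsScalarTower A A' Γ(F, X.basicOpen g) := IsScalarTower.of_algebraMap_smul fun _ _ => rfl
  haveI := hU.isLocalization_basicOpen g
  haveI := FlatnLib.isLocalizedModule_res E hU g (fun _ _ => rfl) (FittLib.resLin E g) (fun _ => rfl)
  haveI := FlatnLib.isLocalizedModule_res F hU g (fun _ _ => rfl) (FittLib.resLin F g) (fun _ => rfl)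
  have hb := (isLocalizedModule_iff_isBaseChange (Submonoid.powers g) A' (FittLib.resLin F g)).mp inferInstance
  haveI := (finite_projective_sections hF hU).1
  have nat : ∀ e : Γ(E, U), v.app (X.basicOpen g) (FittLib.resLin E g e) = FittLib.resLin F g (v.app U e) :=
    fun e => NatTrans.naturality_apply v.mapPresheaf (homOfLE (X.basicOpen_le g)).op e
  refine le_antisymm (Ideal.map_le_iff_le_comap.2 (Ideal.span_le.2 ?_)) (Ideal.span_le.2 ?_)
  · rintro _ ⟨e, φ, rfl⟩
    refine Ideal.subset_span ⟨FittLib.resLin E g e, hb.lift ((Algebra.linearMap A A').comp φ), ?_⟩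
    rw [nat]
    exact hb.lift_eq _ _
  · rintro _ ⟨e', φ', rfl⟩
    obtain ⟨⟨e, t⟩, he⟩ := IsLocalizedModule.surj (Submonoid.powers g) (FittLib.resLin E g) e'
    obtain ⟨φ, s, hφ⟩ := Module.FinitePresentation.exists_lift_of_isLocalizedModule (Submonoid.powers g)
      (Algebra.linearMap A A') ((φ'.restrictScalars A).comp (FittLib.resLin F g))
    have h1 : algebraMap A A' (φ (v.app U e)) = algebraMap A A' ((s : A) * t) * φ' (v.app _ e') := by
      have h2 : algebraMap A A' (φ (v.app U e)) = algebraMap A A' (s : A) * φ' (FittLib.resLin F g (v.app U e)) :=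
        (LinearMap.congr_fun hφ (v.app U e)).trans (Algebra.smul_def (s : A) _)
      rw [h2, ← nat, ← he, map_mul, mul_assoc]
      congr 1
      rw [show (t • e' : Γ(E, X.basicOpen g)) = algebraMap A A' (t : A) • e' from rfl,
        Scheme.Modules.Hom.app_smul, map_smul, smul_eq_mul]
    have hu : IsUnit (algebraMap A A' ((s : A) * t)) := IsLocalization.map_units A' (s * t)
    refine (Ideal.unit_mul_mem_iff_mem _ hu).1 ?_
    rw [← h1]
    exact Ideal.mem_map_of_mem _ (Ideal.subset_span ⟨e, φ, rfl⟩)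

/-- The ideal sheaf of the coefficients. -/
def coeffData (hF : FlatMod.IsFinLocFree F) : X.IdealSheafData where
  ideal U := coeffIdeal v U.1
  map_ideal_basicOpen U g := coeffIdeal_basicOpen v hF U.2 g

theorem pullback_map_eq_zero_iff (hF : FlatMod.IsFinLocFree F) {T : Scheme.{u}} (h : T ⟶ X) :
    (Scheme.Modules.pullback h).map v = 0 ↔
      ∀ U : X.affineOpens, coeffIdeal v U.1 ≤ RingHom.ker (h.app U.1).hom := by
  rw [FlatFunLimLib.map_eq_zero_iff]
  have hgerm : ∀ (U : X.Opens) (z : T) (hz : h z ∈ U) (r : Γ(X, U)),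
      FlatFunLimLib.rho h z hz r = T.presheaf.germ (h ⁻¹ᵁ U) z hz (h.app U r) := fun U z hz r =>
    Scheme.Hom.germ_stalkMap_apply h U z hz r
  refine ⟨fun H U => Ideal.span_le.2 ?_, fun H z => ?_⟩
  · rintro _ ⟨e, φ, rfl⟩
    refine RingHom.mem_ker.2 (TopCat.Presheaf.section_ext T.sheaf (h ⁻¹ᵁ U.1) _ 0 fun z hz => ?_)
    have h1 := (FlatFunLimLib.zeroAt_iff v h (fun m : Γ(E, U.1) => m)
      (Submodule.eq_top_iff'.2 fun m => Submodule.subset_span ⟨m, rfl⟩) U.2 z hz).1 (H z) e
    have h2 : FlatFunLimLib.Kills (FlatFunLimLib.rho h z hz) (v.app U.1 e) :=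
      (FlatFunLimLib.pgerm_eq_zero_iff h U.2 z hz _).1 h1
    refine ((hgerm U.1 z hz _).symm.trans ?_).trans (map_zero _).symm
    letI := (FlatFunLimLib.rho h z hz).toAlgebra
    have h3 : (φ.rTensor (T.presheaf.stalk z)) (v.app U.1 e ⊗ₜ[Γ(X, U.1)] (1 : T.presheaf.stalk z)) = 0 := by
      rw [show v.app U.1 e ⊗ₜ[Γ(X, U.1)] (1 : T.presheaf.stalk z) = 0 from h2, map_zero]
    rw [LinearMap.rTensor_tmul] at h3
    have h4 := congrArg (TensorProduct.lid Γ(X, U.1) (T.presheaf.stalk z)) h3
    rw [TensorProduct.lid_tmul, map_zero, Algebra.smul_def, mul_one] at h4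
    exact h4
  · obtain ⟨U, hU, hzU, -⟩ := exists_isAffineOpen_mem_and_subset (x := h z) (U := ⊤) trivial
    obtain ⟨hfp, hproj⟩ := finite_projective_sections hF hU
    refine (FlatFunLimLib.zeroAt_iff v h (fun m : Γ(E, U) => m)
      (Submodule.eq_top_iff'.2 fun m => Submodule.subset_span ⟨m, rfl⟩) hU z hzU).2 fun e =>
        (FlatFunLimLib.pgerm_eq_zero_iff h hU z hzU _).2 ?_
    obtain ⟨n, π, hπ⟩ := Module.Finite.exists_fin' Γ(X, U) Γ(F, U)
    obtain ⟨σ, hσ⟩ := Module.projective_lifting_property π LinearMap.id hπ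
    letI := (FlatFunLimLib.rho h z hzU).toAlgebra
    show v.app U e ⊗ₜ[Γ(X, U)] (1 : T.presheaf.stalk z) = 0
    have hm : ∀ m : Γ(F, U), m = ∑ i, σ m i • π (Pi.single i 1) := fun m => by
      conv_lhs => rw [← show π (σ m) = m from LinearMap.congr_fun hσ m, pi_eq_sum_univ' (σ m)]
      simp only [map_sum, map_smul]
    rw [hm (v.app U e), TensorProduct.sum_tmul]
    refine Finset.sum_eq_zero fun i _ => ?_
    rw [TensorProduct.smul_tmul, Algebra.smul_def, mul_one]
    have h5 : h.app U (σ (v.app U e) i) = 0 :=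
      H ⟨U, hU⟩ (Ideal.subset_span ⟨e, (LinearMap.proj i).comp σ, rfl⟩)
    show _ ⊗ₜ[Γ(X, U)] FlatFunLimLib.rho h z hzU (σ (v.app U e) i) = 0
    rw [hgerm, h5, map_zero, TensorProduct.tmul_zero]

/-- The zero scheme of a homomorphism into a finite locally free module. -/
theorem exists_zero_ideal (hF : FlatMod.IsFinLocFree F) :
    ∃ I : X.IdealSheafData, ∀ (T : Scheme.{u}) (h : T ⟶ X),
      (∃ g : T ⟶ I.subscheme, g ≫ I.subschemeι = h) ↔ (Scheme.Modules.pullback h).map v = 0 := by
  refine ⟨coeffData v hF, fun T h => ?_⟩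
  rw [pullback_map_eq_zero_iff v hF h]
  refine ⟨?_, fun H => ?_⟩
  · rintro ⟨g, rfl⟩ U
    refine le_trans ?_ (Scheme.Hom.ideal_ker_le _ U)
    show (coeffData v hF).ideal U ≤ _
    refine Scheme.IdealSheafData.ideal_mono ?_ U
    refine le_trans ?_ (g.le_ker_comp _)
    rw [Scheme.IdealSheafData.ker_subschemeι]
  · have hle : (coeffData v hF).subschemeι.ker ≤ h.ker := by
      rw [Scheme.IdealSheafData.ker_subschemeι]
      exact Scheme.IdealSheafData.le_ofIdeals_iff.2 fun U => H U
    exact ⟨IsClosedImmersion.lift _ h hle, IsClosedImmersion.lift_fac _ _ _⟩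

end RepZeroLib
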